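import Groth.Agent.DTenProIso.Tensor
import Groth.Agent.KFlat.BddAbove
import Groth.Agent.KFlat.Module
import Mathlib.LinearAlgebra.TensorProduct.Quotient

/-!
# Tensoring the Koszul system with a bounded complex of finite modules
-/

set_option autoImplicit false
set_option linter.style.haveILetI false
set_option backward.isDefEq.respectTransparency false

universe u

open CategoryTheory CategoryTheory.Limits Opposite CohIII MonoidalCategory CochainComplex

noncomputable section

namespace Groth.Agent.DTenProIso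

open Groth.Agent.KoszulCech Groth.Agent.LocCohLib

variable {A : Type u} [CommRing A]

theorem Inj.of_iso {X Y X' Y' : ARSys.PS (Cx A)} {f : X ⟶ Y} {f' : X' ⟶ Y'} (eX : X ≅ X') (eY : Y ≅ Y')
    (comm : f ≫ eY.hom = eX.hom ≫ f') {i : ℤ} (hf : Inj f' i) : Inj f i := fun n => by
  obtain ⟨m, hm, H⟩ := hf n
  refine ⟨m, hm, fun z hz w hw => ?_⟩
  have hc : ∀ k l (x : (X.obj (op k)).X l), (f'.app (op k)).f l ((eX.hom.app (op k)).f l x) =
      (eY.hom.app (op k)).f l ((f.app (op k)).f l x) := fun k l x =>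
    (ConcreteCategory.congr_hom (HomologicalComplex.congr_hom (congr_app comm (op k)) l) x).symm
  obtain ⟨v, hv⟩ := H ((eX.hom.app (op m)).f i z) (by rw [d_f, hz, map_zero])
    ((eY.hom.app (op m)).f (i - 1) w) (by rw [hc, hw, d_f])
  refine ⟨(eX.inv.app (op n)).f (i - 1) v, ?_⟩
  rw [d_f, hv, nat_f eX.hom hm]
  exact ConcreteCategory.congr_hom
    (HomologicalComplex.congr_hom (Iso.hom_inv_id_app eX (op n)) i) ((ARSys.tr X hm).f i z)

theorem Surj.of_iso {X Y X' Y' : ARSys.PS (Cx A)} {f : X ⟶ Y} {f' : X' ⟶ Y'} (eX : X ≅ X') (eY : Y ≅ Y')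
    (comm : f ≫ eY.hom = eX.hom ≫ f') {i : ℤ} (hf : Surj f' i) : Surj f i := fun n => by
  obtain ⟨m, hm, H⟩ := hf n
  refine ⟨m, hm, fun y hy => ?_⟩
  obtain ⟨x, w, hx, hw⟩ := H ((eY.hom.app (op m)).f i y) (by rw [d_f, hy, map_zero])
  refine ⟨(eX.inv.app (op n)).f i x, (eY.inv.app (op n)).f (i - 1) w, by rw [d_f, hx, map_zero], ?_⟩
  have hi : ∀ (x : (Y.obj (op n)).X i), (eY.inv.app (op n)).f i ((eY.hom.app (op n)).f i x) = x := fun x =>
    ConcreteCategory.congr_hom (HomologicalComplex.congr_hom (Iso.hom_inv_id_app eY (op n)) i) x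
  have hc : f' ≫ eY.inv = eX.inv ≫ f := by
    rw [Iso.comp_inv_eq, Category.assoc, comm, Iso.inv_hom_id_assoc]
  rw [← hi ((ARSys.tr Y hm).f i y), ← nat_f eY.hom hm, hw, map_add, d_f]
  congr 1
  exact ConcreteCategory.congr_hom (HomologicalComplex.congr_hom (congr_app hc (op n)) i) x

/-- The tensor bifunctor of modules. -/
abbrev TF (A : Type u) [CommRing A] := curriedTensor (ModuleCat.{u} A)

/-- The system `n ↦ A / I^(n+1)` in degree zero. -/
abbrev quoSys (I : Ideal A) (M : ModuleCat.{u} A) : ARSys.PS (Cx A) :=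
  adicSystem I M ⋙ HomologicalComplex.single (ModuleCat.{u} A) (ComplexShape.up ℤ) 0

variable (I : Ideal A) {fs : List A} (hfs : Ideal.ofList fs = I)

/-- The augmentation of the Koszul system of `A`. -/
abbrev κA : sys (ModuleCat.of A A) fs ⟶ quoSys I (ModuleCat.of A A) :=
  κ (ModuleCat.of A A) I (fun _ ha => hfs ▸ Ideal.subset_span ha)

/-- The augmentation, tensored with a complex. -/
abbrev τ (K : Cx A) : sys (ModuleCat.of A A) fs ⋙ KFlat.totR (TF A) K ⟶
    quoSys I (ModuleCat.of A A) ⋙ KFlat.totR (TF A) K :=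
  Functor.whiskerRight (κA I hfs) (KFlat.totR (TF A) K)

/-- The pro-isomorphism property of the tensored augmentation. -/
def Good (K : Cx A) : Prop := ∀ i : ℤ, Inj (τ I hfs K) i ∧ Surj (τ I hfs K) i

theorem isZero_tot {L K : Cx A} {n : ℤ} (h : ∀ p q, p + q = n → IsZero (L.X p) ∨ IsZero (K.X q)) :
    IsZero (((KFlat.totR (TF A) K).obj L).X n) := by
  rw [IsZero.iff_id_eq_zero]
  refine HomologicalComplex.mapBifunctor.hom_ext fun p q hpq => ?_
  refine IsZero.eq_of_src ?_ _ _
  rcases h p q hpq with h' | h'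
  · exact (((TF A).flip.obj (K.X q))).map_isZero h'
  · exact ((TF A).obj (L.X p)).map_isZero h'

theorem good_of_isZero {K : Cx A} (hK : ∀ q, IsZero (K.X q)) : Good I hfs K := fun i => by
  have hz : ∀ (L : Cx A) n, Subsingleton (((KFlat.totR (TF A) K).obj L).X n) := fun L n =>
    ModuleCat.subsingleton_of_isZero (isZero_tot fun _ q _ => Or.inr (hK q))
  refine ⟨fun n => ⟨n, le_rfl, fun z _ _ _ => ⟨0, ?_⟩⟩, fun n => ⟨n, le_rfl, fun y _ => ⟨0, 0, map_zero _, ?_⟩⟩⟩
  · haveI := hz ((sys (ModuleCat.of A A) fs).obj (op n)) i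
    exact Subsingleton.elim (α := ((KFlat.totR (TF A) K).obj ((sys (ModuleCat.of A A) fs).obj (op n))).X i) _ _
  · haveI := hz ((quoSys I (ModuleCat.of A A)).obj (op n)) i
    exact Subsingleton.elim (α := ((KFlat.totR (TF A) K).obj ((quoSys I (ModuleCat.of A A)).obj (op n))).X i) _ _

theorem Good.of_iso {K K' : Cx A} (e : K ≅ K') (h : Good I hfs K') : Good I hfs K := fun i => by
  let ε := (TF A).map₂CochainComplex.flip.mapIso e
  have comm : τ I hfs K ≫ (Functor.isoWhiskerLeft (quoSys I (ModuleCat.of A A)) ε).hom =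
      (Functor.isoWhiskerLeft (sys (ModuleCat.of A A) fs) ε).hom ≫ τ I hfs K' := by
    ext n : 2
    exact ε.hom.naturality _
  exact ⟨(h i).1.of_iso _ _ comm, (h i).2.of_iso _ _ comm⟩

theorem Good.five {S : ShortComplex (Cx A)}
    (σ : ∀ q, (S.map (HomologicalComplex.eval (ModuleCat.{u} A) (ComplexShape.up ℤ) q)).Splitting)
    (h₁ : Good I hfs S.X₁) (h₃ : Good I hfs S.X₃) : Good I hfs S.X₂ := fun i => by
  let φ := ((TF A).map₂CochainComplex.flip.map S.f)
  let ψ := ((TF A).map₂CochainComplex.flip.map S.g)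
  have hs : ∀ L : Cx A, SES (φ.app L) (ψ.app L) := fun L =>
    SES.of_shortExact (KFlat.shortExact_tot_of_splitting (TF A) L S σ)
  let ι := Functor.whiskerLeft (sys (ModuleCat.of A A) fs) φ
  let ι' := Functor.whiskerLeft (quoSys I (ModuleCat.of A A)) φ
  let π := Functor.whiskerLeft (sys (ModuleCat.of A A) fs) ψ
  let π' := Functor.whiskerLeft (quoSys I (ModuleCat.of A A)) ψ
  have hab : ι ≫ τ I hfs S.X₂ = τ I hfs S.X₁ ≫ ι' := by
    ext n : 2
    exact (φ.naturality _).symm
  have hbc : π ≫ τ I hfs S.X₃ = τ I hfs S.X₂ ≫ π' := by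
    ext n : 2
    exact (ψ.naturality _).symm
  exact ⟨Inj.five (ι := ι) (π := π) (ι' := ι') (π' := π') (fun _ => hs _) (fun _ => hs _) hab hbc
      (j := i - 1) (by omega) (h₃ i).1 (h₃ (i - 1)).2 (h₁ i).1,
    Surj.five (ι := ι) (π := π) (ι' := ι') (π' := π') (fun _ => hs _) (fun _ => hs _) hab hbc
      (j := i + 1) rfl (h₃ i).2 (h₁ (i + 1)).1 (h₁ i).2⟩

section Base

variable (M : ModuleCat.{u} A)

/-- `(A / J) ⊗ M ≅ M / J M`. -/
def quoTensor (J : Ideal A) :
    (tensorRight M).obj (ModuleCat.of A (A ⧸ (J • (⊤ : Submodule A A)))) ≅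
      ModuleCat.of A (M ⧸ (J • (⊤ : Submodule A M))) :=
  ((LinearEquiv.rTensor M (Submodule.quotEquivOfEq (J • (⊤ : Submodule A A)) J
    (by rw [Ideal.smul_eq_mul, Ideal.mul_top]))).trans (TensorProduct.quotTensorEquivQuotSMul M J)).toModuleIso

theorem quoTensor_mk (J : Ideal A) (a : A) (m : M) :
    (quoTensor M J).hom (Submodule.Quotient.mk a ⊗ₜ[A] m) = Submodule.Quotient.mk (a • m) :=
  TensorProduct.quotTensorEquivQuotSMul_mk_tmul J a m

/-- The system of quotients of `A`, tensored with `M`. -/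
def adicTensor : adicSystem I (ModuleCat.of A A) ⋙ tensorRight M ≅ adicSystem I M :=
  NatIso.ofComponents (fun n => quoTensor M (I ^ (n.unop + 1))) fun {n m} g => by
    refine ModuleCat.MonoidalCategory.tensor_ext fun a x => ?_
    obtain ⟨a, rfl⟩ := Submodule.Quotient.mk_surjective _ a
    show (quoTensor M (I ^ (m.unop + 1))).hom
        (ARSys.tr (adicSystem I (ModuleCat.of A A)) (leOfHom g.unop) (Submodule.Quotient.mk a) ⊗ₜ[A] x) =
      ARSys.tr (adicSystem I M) (leOfHom g.unop) ((quoTensor M (I ^ (n.unop + 1))).hom (Submodule.Quotient.mk a ⊗ₜ[A] x))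
    rw [adicSystem_tr_mk, quoTensor_mk, quoTensor_mk, adicSystem_tr_mk]

/-- The tensored Koszul system. -/
def sysTensor : sys (ModuleCat.of A A) fs ⋙ (tensorRight M).mapHomologicalComplex (ComplexShape.up ℤ) ≅ sys M fs :=
  NatIso.ofComponents (fun n => kten M (fs.map (· ^ (n.unop + 1)))) fun {_ _} _ => kten_invTrans M _ fs

/-- The tensored target. -/
def quoSysTensor :
    quoSys I (ModuleCat.of A A) ⋙ (tensorRight M).mapHomologicalComplex (ComplexShape.up ℤ) ≅ quoSys I M :=
  Functor.associator _ _ _ ≪≫ Functor.isoWhiskerLeft (adicSystem I (ModuleCat.of A A))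
    (HomologicalComplex.singleMapHomologicalComplex (tensorRight M) (ComplexShape.up ℤ) 0) ≪≫
    (Functor.associator _ _ _).symm ≪≫ Functor.isoWhiskerRight (adicTensor I M) _

theorem comm_tensor :
    Functor.whiskerRight (κA I hfs) ((tensorRight M).mapHomologicalComplex (ComplexShape.up ℤ)) ≫ (quoSysTensor I M).hom =
      (sysTensor M).hom ≫ κ M I (fun _ ha => hfs ▸ Ideal.subset_span ha) := by
  ext n : 2
  refine HomologicalComplex.to_single_hom_ext ?_
  refine ModuleCat.MonoidalCategory.tensor_ext fun y x => ?_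
  refine (top0 ((adicSystem I M).obj n)).toLinearEquiv.injective ?_
  refine Eq.trans ?_ ((κ_f_zero M I (fun _ ha => hfs ▸ Ideal.subset_span ha) n.unop _).trans
    (congrArg Submodule.Quotient.mk ((kaug_kten M _ (y ⊗ₜ[A] x)).trans rfl))).symm
  have e : ((quoSysTensor I M).hom.app n).f 0 = (tensorRight M).map (top0 ((adicSystem I (ModuleCat.of A A)).obj n)).hom ≫
      (quoTensor M (I ^ (n.unop + 1))).hom ≫ (top0 ((adicSystem I M).obj n)).inv := by
    simp [quoSysTensor, adicTensor, top0, HomologicalComplex.single_map_f_self]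
  show (top0 ((adicSystem I M).obj n)).hom (((quoSysTensor I M).hom.app n).f 0
    ((tensorRight M).map (((κA I hfs).app n).f 0) (y ⊗ₜ[A] x))) = _
  rw [e, ModuleCat.comp_apply, ModuleCat.comp_apply]
  refine (ConcreteCategory.congr_hom (top0 ((adicSystem I M).obj n)).inv_hom_id _).trans ?_
  show (quoTensor M (I ^ (n.unop + 1))).hom
    ((top0 ((adicSystem I (ModuleCat.of A A)).obj n)).hom (((κA I hfs).app n).f 0 y) ⊗ₜ[A] x) = _
  erw [κ_f_zero, quoTensor_mk]
  rfl

/-- Tensoring with `M` placed in degree `p`. -/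
abbrev totSingle (p : ℤ) : Cx A ⥤ Cx A :=
  KFlat.totR (TF A) ((HomologicalComplex.single (ModuleCat.{u} A) (ComplexShape.up ℤ) p).obj M)

/-- The only summand of the tensor product with `M` placed in degree `p`. -/
def singleE (p : ℤ) (L : Cx A) (i j : ℤ) (h : i + p = j) :
    (((tensorRight M).mapHomologicalComplex (ComplexShape.up ℤ)).obj L).X i ≃ₗ[A] ((totSingle M p).obj L).X j :=
  (@asIso _ _ _ _ (KFlat.singleι (TF A) L p M i j h) (KFlat.isIso_singleι (TF A) L p M i j h)).toLinearEquiv

theorem singleE_d (p : ℤ) (L : Cx A) (i j i' j' : ℤ) (h : i + p = j) (h' : i' + p = j') (hi : i + 1 = i')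
    (x : (((tensorRight M).mapHomologicalComplex (ComplexShape.up ℤ)).obj L).X i) :
    ((totSingle M p).obj L).d j j' (singleE M p L i j h x) =
      singleE M p L i' j' h' ((((tensorRight M).mapHomologicalComplex (ComplexShape.up ℤ)).obj L).d i i' x) :=
  ConcreteCategory.congr_hom (KFlat.singleι_d (TF A) L p M i i' j j' h h' hi) x

theorem singleE_nat (p : ℤ) {L L' : Cx A} (g : L ⟶ L') (i j : ℤ) (h : i + p = j)
    (x : (((tensorRight M).mapHomologicalComplex (ComplexShape.up ℤ)).obj L).X i) :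
    ((totSingle M p).map g).f j (singleE M p L i j h x) =
      singleE M p L' i j h ((((tensorRight M).mapHomologicalComplex (ComplexShape.up ℤ)).map g).f i x) := by
  refine ConcreteCategory.congr_hom (f := KFlat.singleι (TF A) L p M i j h ≫ ((totSingle M p).map g).f j)
    (g := ((TF A).flip.obj M).map (g.f i) ≫ KFlat.singleι (TF A) L' p M i j h) ?_ x
  simp only [KFlat.singleι, Category.assoc]
  erw [HomologicalComplex.ι_mapBifunctorMap]
  simp only [HomologicalComplex.id_f, CategoryTheory.Functor.map_id, Category.id_comp]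
  exact ((TF A).map (g.f i)).naturality_assoc _ _ |>.trans rfl

theorem inj_totSingle {S N : ARSys.PS (Cx A)} (φ : S ⟶ N) (p : ℤ) {i j : ℤ} (h : i + p = j)
    (h1 : Inj (Functor.whiskerRight φ ((tensorRight M).mapHomologicalComplex (ComplexShape.up ℤ))) i) :
    Inj (Functor.whiskerRight φ (totSingle M p)) j :=
  Inj.transfer (fun n => singleE M p (S.obj (op n))) (fun n => singleE M p (N.obj (op n)))
    (fun n => singleE_d M p (S.obj (op n))) (fun n => singleE_d M p (N.obj (op n)))
    (fun hnm => singleE_nat M p (ARSys.tr S hnm)) (fun hnm => singleE_nat M p (ARSys.tr N hnm))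
    (fun n => singleE_nat M p (φ.app (op n))) h h1

theorem surj_totSingle {S N : ARSys.PS (Cx A)} (φ : S ⟶ N) (p : ℤ) {i j : ℤ} (h : i + p = j)
    (h1 : Surj (Functor.whiskerRight φ ((tensorRight M).mapHomologicalComplex (ComplexShape.up ℤ))) i) :
    Surj (Functor.whiskerRight φ (totSingle M p)) j :=
  Surj.transfer (fun n => singleE M p (S.obj (op n))) (fun n => singleE M p (N.obj (op n)))
    (fun n => singleE_d M p (S.obj (op n))) (fun n => singleE_d M p (N.obj (op n)))
    (fun hnm => singleE_nat M p (ARSys.tr S hnm)) (fun hnm => singleE_nat M p (ARSys.tr N hnm))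
    (fun n => singleE_nat M p (φ.app (op n))) h h1

theorem good_single [IsNoetherianRing A] (p : ℤ) [Module.Finite A M] :
    Good I hfs ((HomologicalComplex.single (ModuleCat.{u} A) (ComplexShape.up ℤ) p).obj M) := fun j =>
  ⟨inj_totSingle M (κA I hfs) p (show j - p + p = j by omega)
      ((inj_κ M I hfs (j - p)).of_iso (sysTensor M) (quoSysTensor I M) (comm_tensor I hfs M)),
    surj_totSingle M (κA I hfs) p (show j - p + p = j by omega)
      ((surj_κ M I (fun _ ha => hfs ▸ Ideal.subset_span ha) (j - p)).of_iso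
        (sysTensor M) (quoSysTensor I M) (comm_tensor I hfs M))⟩

end Base

theorem good_brutal_step [IsNoetherianRing A] (K : Cx A) (c : ℤ) (hc : Module.Finite A (K.X c))
    (h : Good I hfs (KFlat.brutal K (c + 1))) : Good I hfs (KFlat.brutal K c) :=
  Good.five I hfs (S := KFlat.brutalShortComplex K c) (KFlat.brutalSplitting K c) h
    (good_single I hfs (K.X c) c)

/-- The tensored augmentation is a pro-isomorphism on homology for bounded complexes of finite modules. -/
theorem good_of_bounded [IsNoetherianRing A] (K : Cx A) (a b : ℤ)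
    (hK : ∀ i, i < a ∨ b < i → IsZero (K.X i)) (hKf : ∀ i, Module.Finite A (K.X i)) : Good I hfs K := by
  have key : ∀ m : ℕ, Good I hfs (KFlat.brutal K (b + 1 - m)) := fun m => by
    induction m with
    | zero =>
      refine good_of_isZero I hfs fun n => ?_
      by_cases hn : n < b + 1 - ((0 : ℕ) : ℤ)
      · exact KFlat.isZero_brutal K _ hn
      · exact KFlat.isZero_brutal_of_isZero K _ (hK n (Or.inr (by simp at hn; omega)))
    | succ m ih =>
      refine good_brutal_step I hfs K _ (hKf _) ?_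
      rw [show b + 1 - ((m + 1 : ℕ) : ℤ) + 1 = b + 1 - (m : ℤ) by push_cast; ring]
      exact ih
  let m := (b + 1 - a).toNat
  haveI : ∀ n, IsIso ((KFlat.brutalι K (b + 1 - m)).f n) := fun n => by
    by_cases hn : b + 1 - m ≤ n
    · exact KFlat.isIso_incl K _ hn
    · exact ⟨0, (KFlat.isZero_brutal K _ (by omega)).eq_of_src _ _, (hK n (Or.inl (by omega))).eq_of_src _ _⟩
  haveI := HomologicalComplex.Hom.isIso_of_components (KFlat.brutalι K (b + 1 - m))
  exact Good.of_iso I hfs (asIso (KFlat.brutalι K (b + 1 - m))).symm (key m)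

end Groth.Agent.DTenProIso
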