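import Groth.Agent.DTenProIso.Main
import Groth.Agent.DTenLib.Exact

/-!
# A power of the ideal factors through the derived tensor product with the ideal
-/

set_option autoImplicit false
set_option linter.style.haveILetI false
set_option backward.isDefEq.respectTransparency false

universe u

open CategoryTheory CategoryTheory.Limits Opposite CohIII MonoidalCategory CochainComplex
attribute [local instance] HasDerivedCategory.standard

noncomputable section

namespace Groth.Agent.DTenProIso

variable {A : Type u} [CommRing A]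

/-- A module in degree zero. -/
abbrev S0 : ModuleCat.{u} A ⥤ Cx A := HomologicalComplex.single (ModuleCat.{u} A) (ComplexShape.up ℤ) 0

/-- The projection `A → A / I^(n+1)`. -/
abbrev π (I : Ideal A) (n : ℕ) : ModuleCat.of A A ⟶ (adicSystem I (ModuleCat.of A A)).obj (op n) :=
  ModuleCat.ofHom (Submodule.mkQ (I ^ (n + 1) • (⊤ : Submodule A A)))

theorem π_tr (I : Ideal A) {n m : ℕ} (h : n ≤ m) : π I m ≫ ARSys.tr (adicSystem I (ModuleCat.of A A)) h = π I n :=
  ModuleCat.hom_ext (LinearMap.ext fun x => adicSystem_tr_mk (ModuleCat.of A A) I h x)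

theorem tensor_eq_zero {N M : ModuleCat.{u} A} (ι : N ⟶ M) (I : Ideal A) (n : ℕ)
    (hι : ∀ x, ι x ∈ I ^ (n + 1) • (⊤ : Submodule A M)) : S0.map ι ⊗ₘ S0.map (π I n) = 0 := by
  change HomologicalComplex.mapBifunctorMap (S0.map ι) (S0.map (π I n)) (TF A) (ComplexShape.up ℤ) = 0
  refine HomologicalComplex.hom_ext _ _ fun k => HomologicalComplex.mapBifunctor.hom_ext fun p q h => ?_
  rw [HomologicalComplex.zero_f, comp_zero, HomologicalComplex.ι_mapBifunctorMap]
  by_cases hp : p = 0
  · by_cases hq : q = 0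
    · subst hp hq
      have h0 : ι ⊗ₘ π I n = 0 := by
        refine ModuleCat.MonoidalCategory.tensor_ext fun x a => ?_
        show ι x ⊗ₜ[A] Submodule.Quotient.mk a = 0
        refine Submodule.smul_induction_on (hι x) (fun r hr y _ => ?_) (fun y z hy hz => ?_)
        · rw [TensorProduct.smul_tmul, ← Submodule.Quotient.mk_smul]
          erw [(Submodule.Quotient.mk_eq_zero _).mpr (Submodule.smul_mem_smul hr Submodule.mem_top)]
          exact TensorProduct.tmul_zero _ _
        · rw [TensorProduct.add_tmul, hy, hz, add_zero]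
      simp only [curriedTensor_map_app, curriedTensor_obj_map, HomologicalComplex.single_map_f_self,
        ← tensorHom_id, ← id_tensorHom]
      rw [← Category.assoc, MonoidalCategory.tensorHom_comp_tensorHom, Category.id_comp, Category.comp_id,
        ← MonoidalCategory.tensorHom_comp_tensorHom, ← MonoidalCategory.tensorHom_comp_tensorHom, h0]
      simp
    · exact IsZero.eq_of_src (((TF A).obj _).map_isZero
        (HomologicalComplex.isZero_single_obj_X (ComplexShape.up ℤ) 0 _ q hq)) _ _
  · exact IsZero.eq_of_src (((TF A).flip.obj _).map_isZero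
      (HomologicalComplex.isZero_single_obj_X (ComplexShape.up ℤ) 0 _ p hp)) _ _

/-- `0 → I → A → A/I → 0`. -/
def idealSeq (I : Ideal A) : ShortComplex (ModuleCat.{u} A) :=
  ShortComplex.mk (ModuleCat.ofHom I.subtype) (π I 0) (ModuleCat.hom_ext (LinearMap.ext fun x =>
    (Submodule.Quotient.mk_eq_zero _).mpr (by
      show (x : A) ∈ I ^ (0 + 1) • (⊤ : Submodule A A)
      rw [zero_add, pow_one, Ideal.smul_eq_mul, Ideal.mul_top]
      exact x.2)))

theorem idealSeq_shortExact (I : Ideal A) : (idealSeq I).ShortExact where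
  exact := by
    rw [ShortComplex.moduleCat_exact_iff]
    intro x hx
    have hx' : x ∈ I ^ (0 + 1) • (⊤ : Submodule A A) := (Submodule.Quotient.mk_eq_zero _).mp hx
    rw [zero_add, pow_one, Ideal.smul_eq_mul, Ideal.mul_top] at hx'
    exact ⟨⟨x, hx'⟩, rfl⟩
  mono_f := (ModuleCat.mono_iff_injective _).mpr Subtype.val_injective
  epi_g := (ModuleCat.epi_iff_surjective _).mpr (Submodule.mkQ_surjective _)

variable [IsNoetherianRing A] [DTen.HasLTen A] [DTen.KFlatComputes A]

theorem exists_factor (I : Ideal A) (M : Type u) [AddCommGroup M] [Module A M] [Module.Finite A M] :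
    ∃ (n : ℕ) (_ : 0 < n)
      (g : DerivedCategory.Q.obj (S0.obj (ModuleCat.of A ↥(I ^ n • (⊤ : Submodule A M)))) ⟶
        (DTen.LTen₂ A).obj (DerivedCategory.Q.obj (S0.obj (ModuleCat.of A ↥I)),
          DerivedCategory.Q.obj (S0.obj (ModuleCat.of A M)))),
      g ≫ (DTen.LTen₂ A).map (Prod.mkHom
          (DerivedCategory.Q.map (S0.map (ModuleCat.ofHom I.subtype))) (𝟙 _)) ≫
        (DTen.unitL A).app (DerivedCategory.Q.obj (S0.obj (ModuleCat.of A M))) =
      DerivedCategory.Q.map (S0.map (ModuleCat.ofHom (I ^ n • (⊤ : Submodule A M)).subtype)) := by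
  let K : Cx A := S0.obj (ModuleCat.of A M)
  have hK : ∀ i : ℤ, i < 0 ∨ 0 < i → IsZero (K.X i) := fun i hi =>
    HomologicalComplex.isZero_single_obj_X (ComplexShape.up ℤ) 0 _ i (by omega)
  have hKf : ∀ i, Module.Finite A (K.X i) := fun i => by
    by_cases hi : i = 0
    · subst hi
      exact Module.Finite.equiv (top0 (ModuleCat.of A M)).toLinearEquiv.symm
    · haveI := ModuleCat.subsingleton_of_isZero (hK i (by omega))
      infer_instance
  obtain ⟨m, hm, b, hb, -⟩ := isProIso_εLeft I K 0 0 hK hKf 0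
  refine ⟨m + 1, Nat.succ_pos m, ?_⟩
  let ι : ModuleCat.of A ↥(I ^ (m + 1) • (⊤ : Submodule A M)) ⟶ ModuleCat.of A M :=
    ModuleCat.ofHom (Submodule.subtype _)
  let N : Cx A := S0.obj (ModuleCat.of A ↥(I ^ (m + 1) • (⊤ : Submodule A M)))
  let O : Cx A := 𝟙_ (Cx A)
  let G : Cx A ⥤ Dual.D A := DerivedCategory.Q ⋙ (DTen.LTen A).obj (DerivedCategory.Q.obj K)
  haveI : IsIso ((DTen.ε A).app (O, K)) := DTen.KFlatComputes.isIso_counit O K (Or.inl
    ((KFlat.isKFlatFor_iff_tensor A O).1
      (KFlat.isKFlatFor_single (TF A) 0 (ModuleCat.of A A) (KFlat.goodObj_of_flat A inferInstance))))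
  haveI : IsIso ((DTen.symm A).app (DerivedCategory.Q.obj O, DerivedCategory.Q.obj K)) :=
    DTenLib.isIso_symm_app _ _
  haveI hu : IsIso ((DTen.unitL A).app (DerivedCategory.Q.obj K)) := by
    rw [DTen.unitL_app]
    infer_instance
  let φ : DerivedCategory.Q.obj N ⟶ (DTen.LTen₂ A).obj (DerivedCategory.Q.obj O, DerivedCategory.Q.obj K) :=
    DerivedCategory.Q.map (S0.map ι) ≫ inv ((DTen.unitL A).app (DerivedCategory.Q.obj K))
  have hφ : φ ≫ (DTen.unitL A).app (DerivedCategory.Q.obj K) = DerivedCategory.Q.map (S0.map ι) := by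
    simp only [φ, Category.assoc, IsIso.inv_hom_id, Category.comp_id]
  let φ' : DerivedCategory.Q.obj N ⟶ G.obj O :=
    φ ≫ inv ((DTen.symm A).app (DerivedCategory.Q.obj O, DerivedCategory.Q.obj K))
  have h1 : φ' ≫ (DTen.εLeft A K).app O =
      DerivedCategory.Q.map (S0.map ι ≫ (λ_ K).inv ≫ (DTen.braidCx K O).inv) := by
    have e := DTen.symm_fac A O K
    have e' : inv ((DTen.symm A).app (DerivedCategory.Q.obj O, DerivedCategory.Q.obj K)) ≫ (DTen.εLeft A K).app O =
        (DTen.ε A).app (O, K) ≫ DerivedCategory.Q.map (DTen.braidCx K O).inv := by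
      rw [IsIso.inv_comp_eq, ← Category.assoc]
      erw [e, Category.assoc, ← Functor.map_comp, Iso.hom_inv_id, CategoryTheory.Functor.map_id, Category.comp_id]
      rfl
    simp only [φ', φ, Category.assoc, Functor.map_comp]
    erw [e']
    congr 1
    rw [IsIso.inv_comp_eq, DTen.unitL_app]
    simp only [Category.assoc]
    rw [← Functor.map_comp_assoc, Iso.hom_inv_id, CategoryTheory.Functor.map_id, Category.id_comp]
  have h2 : (S0.map ι ≫ (λ_ K).inv ≫ (DTen.braidCx K O).inv) ≫ K ◁ S0.map (π I m) = 0 := by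
    have n1 : S0.map ι ≫ (λ_ K).inv = (λ_ N).inv ≫ O ◁ S0.map ι :=
      leftUnitor_inv_naturality (S0.map ι)
    have n2 : O ◁ S0.map ι ≫ (DTen.braidCx K O).inv = (DTen.braidCx N O).inv ≫ S0.map ι ▷ O := by
      rw [Iso.comp_inv_eq, Category.assoc, ← tensorHom_id, DTen.braidCx_naturality, Iso.inv_hom_id_assoc,
        id_tensorHom]
    rw [reassoc_of% n1, n2, Category.assoc, Category.assoc, ← MonoidalCategory.tensorHom_def]
    rw [tensor_eq_zero ι I m (fun x => x.2)]
    simp
  have h3 : φ' ≫ G.map (S0.map (π I 0)) = 0 := by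
    rw [← π_tr I (Nat.zero_le m), Functor.map_comp, Functor.map_comp]
    have hb' : G.map (S0.map (ARSys.tr (adicSystem I (ModuleCat.of A A)) (Nat.zero_le m))) =
        (DTen.εLeft A K).app (S0.obj ((adicSystem I (ModuleCat.of A A)).obj (op m))) ≫ b := hb.symm
    have n : G.map (S0.map (π I m)) ≫ (DTen.εLeft A K).app (S0.obj ((adicSystem I (ModuleCat.of A A)).obj (op m))) =
        (DTen.εLeft A K).app O ≫ DerivedCategory.Q.map (K ◁ S0.map (π I m)) :=
      (DTen.εLeft A K).naturality (S0.map (π I m) : O ⟶ _)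
    rw [hb', reassoc_of% n, reassoc_of% h1, ← Functor.map_comp_assoc, h2, Functor.map_zero, zero_comp]
  have hS : ((idealSeq I).map S0).ShortExact := (idealSeq_shortExact I).map_of_exact S0
  have h4 : φ ≫ (DTen.tensorRightD A (DerivedCategory.Q.obj K)).map (DerivedCategory.Q.map (S0.map (π I 0))) = 0 := by
    have n : (DTen.symm A).app (DerivedCategory.Q.obj O, DerivedCategory.Q.obj K) ≫
        (DTen.tensorRightD A (DerivedCategory.Q.obj K)).map (DerivedCategory.Q.map (S0.map (π I 0))) =
        G.map (S0.map (π I 0)) ≫ (DTen.symm A).app (_, DerivedCategory.Q.obj K) :=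
      ((DTen.symm A).naturality (Prod.mkHom (DerivedCategory.Q.map (S0.map (π I 0) : O ⟶ _)) (𝟙 (DerivedCategory.Q.obj K)))).symm
    have : φ = φ' ≫ (DTen.symm A).app (DerivedCategory.Q.obj O, DerivedCategory.Q.obj K) := by
      simp [φ']
    rw [this, Category.assoc]
    erw [n, ← Category.assoc, h3, zero_comp]
  obtain ⟨g, hg⟩ := DTenLib.homExact_tensorRight (DerivedCategory.Q.obj K) (DerivedCategory.Q.obj N)
    (DerivedCategory.triangleOfSES hS) (DerivedCategory.triangleOfSES_distinguished hS) φ h4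
  refine ⟨g, ?_⟩
  rw [← Category.assoc]
  refine (congrArg (· ≫ _) hg).trans ?_
  exact hφ

end Groth.Agent.DTenProIso
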