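import Groth.Agent.DTenProIso.ProMod
import Groth.Agent.KoszulCech.Poly
import Groth.Prelude.Def_ega3

/-!
# The inverse system of Koszul complexes of the powers of generators of an ideal
-/

set_option autoImplicit false
set_option linter.style.haveILetI false
set_option backward.isDefEq.respectTransparency false

universe u

open CategoryTheory CategoryTheory.Limits Opposite CohIII
open scoped Pointwise

noncomputable section

namespace Groth.Agent.DTenProIso

open Groth.Agent.KoszulCech Groth.Agent.LocCohLib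

variable {A : Type u} [CommRing A] (M : ModuleCat.{u} A)

/-- The transition `K(f^m; M) ⟶ K(f^n; M)` for `n ≤ m`. -/
def invTrans {n m : ℕ} (h : n ≤ m) :
    ∀ fs : List A, koszulCx M (fs.map (· ^ m)) ⟶ koszulCx M (fs.map (· ^ n))
  | [] => 𝟙 _
  | f :: l => CochainComplex.mappingCone.map (f ^ m • 𝟙 (koszulCx M (l.map (· ^ m))))
      (f ^ n • 𝟙 (koszulCx M (l.map (· ^ n)))) (f ^ (m - n) • invTrans h l) (invTrans h l) (by
        simp only [Linear.smul_comp, Linear.comp_smul, Category.id_comp, Category.comp_id, smul_smul,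
          ← pow_add, Nat.add_sub_cancel' h])

theorem invTrans_self (n : ℕ) : ∀ fs : List A, invTrans M (le_refl n) fs = 𝟙 _
  | [] => rfl
  | f :: l => by
    refine Eq.trans ?_ (CochainComplex.mappingCone.map_id _)
    simp only [invTrans]
    congr 1
    · rw [Nat.sub_self, pow_zero, one_smul]; exact invTrans_self n l
    · exact invTrans_self n l

theorem invTrans_comp {a b c : ℕ} (h₁ : a ≤ b) (h₂ : b ≤ c) : ∀ fs : List A,
    invTrans M h₂ fs ≫ invTrans M h₁ fs = invTrans M (h₁.trans h₂) fs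
  | [] => Category.id_comp _
  | f :: l => by
    simp only [invTrans]
    refine (CochainComplex.mappingCone.map_comp _ _ _ _ _ _ _ _ _).symm.trans ?_
    congr 1
    · rw [Linear.smul_comp, Linear.comp_smul, smul_smul, ← pow_add, invTrans_comp h₁ h₂ l,
        show c - b + (b - a) = c - a by omega]
    · exact invTrans_comp h₁ h₂ l

/-- The inverse system `n ↦ K(f^(n+1); M)`. -/
def sys (fs : List A) : ARSys.PS (Cx A) where
  obj n := koszulCx M (fs.map (· ^ (n.unop + 1)))
  map {n m} g := invTrans M (by have := leOfHom g.unop; omega) fs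
  map_id n := invTrans_self M _ fs
  map_comp g g' := (invTrans_comp M _ _ fs).symm

theorem kaug_invTrans {n m : ℕ} (h : n ≤ m) : ∀ (fs : List A)
    (x : (koszulCx M (fs.map (· ^ m))).X 0),
    kaug M (fs.map (· ^ n)) ((invTrans M h fs).f 0 x) = kaug M (fs.map (· ^ m)) x
  | [], _ => rfl
  | f :: l, x => by
    show kaug M (l.map (· ^ n)) (csnd (f ^ n • 𝟙 (koszulCx M (l.map (· ^ n)))) 0
      ((invTrans M h (f :: l)).f 0 x)) = _
    rw [show csnd (f ^ n • 𝟙 (koszulCx M (l.map (· ^ n)))) 0 ((invTrans M h (f :: l)).f 0 x) = _ from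
      csnd_map _ _ _ _ _ x, kaug_invTrans h l]
    rfl

theorem exists_stabilizer [IsNoetherianRing A] [Module.Finite A M] (f : A) (N : Submodule A M) :
    ∃ c : ℕ, ∀ (k : ℕ) (x : M), f ^ k • x ∈ N → f ^ c • x ∈ N := by
  let g : ℕ →o Submodule A M :=
    ⟨fun k => N.comap (LinearMap.lsmul A M (f ^ k)), fun k l hkl x hx => by
      show f ^ l • x ∈ N
      rw [← Nat.sub_add_cancel hkl, pow_add, mul_smul]
      exact N.smul_mem _ hx⟩
  obtain ⟨c, hc⟩ := monotone_stabilizes_iff_noetherian.mpr inferInstance g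
  refine ⟨c, fun k x hx => ?_⟩
  rcases le_or_gt c k with h | h
  · exact ((hc k h).symm.le hx : x ∈ g c)
  · exact g.mono h.le hx

theorem pow_ofList_le {n m : ℕ} (h : n ≤ m) (fs : List A) :
    Ideal.ofList (fs.map (· ^ m)) ≤ Ideal.ofList (fs.map (· ^ n)) := by
  refine Ideal.span_le.mpr fun a ha => ?_
  obtain ⟨b, hb, rfl⟩ := List.mem_map.mp ha
  rw [SetLike.mem_coe, ← Nat.sub_add_cancel h, pow_add]
  exact Ideal.mul_mem_left _ _ (Ideal.subset_span (List.mem_map.mpr ⟨b, hb, rfl⟩))

/-- Negative degree cohomology of the Koszul complexes of powers is pro-zero. -/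
theorem exists_boundary [IsNoetherianRing A] [Module.Finite A M] : ∀ (fs : List A) (i j : ℤ), j + 1 = i → i < 0 →
    ∀ n : ℕ, ∃ (m : ℕ) (h : n ≤ m), ∀ z : (koszulCx M (fs.map (· ^ m))).X i,
      (koszulCx M (fs.map (· ^ m))).d i (i + 1) z = 0 →
      ∃ v, (koszulCx M (fs.map (· ^ n))).d j i v = (invTrans M h fs).f i z
  | [], i, j, _, hi, n => ⟨n, le_rfl, fun z _ => ⟨0, by
      haveI := subsingleton_X M [] i (Or.inr (by simpa using hi))
      exact Subsingleton.elim (α := (koszulCx M []).X i) _ _⟩⟩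
  | f :: l, i, j, hji, hi, n => by
    obtain ⟨m₁, h₁, H₁⟩ := exists_boundary l i j hji hi n
    have key : ∃ (m : ℕ) (h : m₁ ≤ m), ∀ a : (koszulCx M (l.map (· ^ m))).X (i + 1),
        (koszulCx M (l.map (· ^ m))).d (i + 1) (i + 1 + 1) a = 0 →
        ∀ b : (koszulCx M (l.map (· ^ m))).X i, f ^ m • a + (koszulCx M (l.map (· ^ m))).d i (i + 1) b = 0 →
          ∃ v, (koszulCx M (l.map (· ^ m₁))).d i (i + 1) v = f ^ (m - m₁) • (invTrans M h l).f (i + 1) a := by
      rcases lt_or_ge (i + 1) 0 with h0 | h0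
      · obtain ⟨m, h, H⟩ := exists_boundary l (i + 1) i rfl h0 m₁
        refine ⟨m, h, fun a ha b _ => ?_⟩
        obtain ⟨v, hv⟩ := H a ha
        exact ⟨f ^ (m - m₁) • v, by rw [map_smul, hv]⟩
      · obtain rfl : i = -1 := by omega
        obtain ⟨c, hc⟩ := exists_stabilizer M f (Ideal.ofList (l.map (· ^ m₁)) • (⊤ : Submodule A M))
        refine ⟨m₁ + c, by omega, fun a _ b hab => ?_⟩
        refine (kaug_mem_iff M _ _).mp ?_
        rw [map_smul, show kaug M (l.map (· ^ m₁)) ((invTrans M _ l).f (-1 + 1) a) = _ from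
          kaug_invTrans M _ l a, Nat.add_sub_cancel_left]
        refine hc (m₁ + c) _ (Submodule.smul_mono_left (pow_ofList_le (Nat.le_add_right m₁ c) l) ?_)
        rw [← map_smul]
        exact (kaug_mem_iff M _ _).mpr ⟨-b, by rw [map_neg]; exact neg_eq_of_add_eq_zero_left hab⟩
    obtain ⟨m, h₂, H₂⟩ := key
    refine ⟨m, h₁.trans h₂, fun z hz => ?_⟩
    let φ := fun k : ℕ => f ^ k • 𝟙 (koszulCx M (l.map (· ^ k)))
    let a := cfst (φ m) i (i + 1) rfl z
    let b := csnd (φ m) i z
    have ha : (koszulCx M (l.map (· ^ m))).d (i + 1) (i + 1 + 1) a = 0 := by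
      have e := cfst_d (φ m) (rfl : i + 1 = i + 1) (rfl : i + 1 + 1 = i + 1 + 1) z
      rw [show (CochainComplex.mappingCone (φ m)).d i (i + 1) z = 0 from hz, map_zero] at e
      exact neg_eq_zero.mp e.symm
    have hb : f ^ m • a + (koszulCx M (l.map (· ^ m))).d i (i + 1) b = 0 := by
      have e := csnd_d (φ m) (rfl : i + 1 = i + 1) z
      rw [show (CochainComplex.mappingCone (φ m)).d i (i + 1) z = 0 from hz, map_zero, smulId_f_apply] at e
      exact e.symm
    obtain ⟨v, hv⟩ := H₂ a ha b hb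
    let b' : (koszulCx M (l.map (· ^ m₁))).X i := (invTrans M h₂ l).f i b + f ^ m₁ • v
    have hb' : (koszulCx M (l.map (· ^ m₁))).d i (i + 1) b' = 0 := by
      simp only [b']
      rw [map_add, map_smul, hv, smul_smul, ← pow_add, Nat.add_sub_cancel' h₂, d_f,
        ← map_smul, ← map_add]
      exact (congrArg _ ((add_comm _ _).trans hb)).trans (map_zero _)
    obtain ⟨w, hw⟩ := H₁ b' hb'
    refine ⟨cmk (φ n) j i hji (-(f ^ (m₁ - n) • (invTrans M h₁ l).f i v)) w, cone_ext (φ n) (rfl : i + 1 = i + 1) ?_ ?_⟩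
    · refine (cfst_d (φ n) hji rfl _).trans ?_
      refine Eq.trans ?_ (cfst_map (φ m) (φ n) _ _ _ (rfl : i + 1 = i + 1) z).symm
      show _ = f ^ (m - n) • (invTrans M (h₁.trans h₂) l).f (i + 1) a
      rw [cfst_cmk, map_neg, neg_neg, map_smul, d_f, hv, map_smul, smul_smul, ← pow_add,
        show m₁ - n + (m - m₁) = m - n by omega, ← invTrans_comp M h₁ h₂]
      rfl
    · refine (csnd_d (φ n) hji _).trans ?_
      refine Eq.trans ?_ (csnd_map (φ m) (φ n) _ _ _ z).symm
      show _ = (invTrans M (h₁.trans h₂) l).f i b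
      rw [cfst_cmk, csnd_cmk, hw, smulId_f_apply, smul_neg, smul_smul, ← pow_add, Nat.add_sub_cancel' h₁]
      simp only [b', map_add, map_smul]
      rw [← invTrans_comp M h₁ h₂]
      show -_ + ((invTrans M h₁ l).f i ((invTrans M h₂ l).f i b) + _) = (invTrans M h₁ l).f i ((invTrans M h₂ l).f i b)
      abel

variable (I : Ideal A)

/-- The only term of a complex concentrated in degree zero. -/
abbrev top0 (N : ModuleCat.{u} A) :
    ((HomologicalComplex.single (ModuleCat.{u} A) (ComplexShape.up ℤ) 0).obj N).X 0 ≅ N :=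
  HomologicalComplex.singleObjXSelf (ComplexShape.up ℤ) 0 N

theorem adicSystem_tr_mk {n m : ℕ} (h : n ≤ m) (x : M) :
    ARSys.tr (adicSystem I M) h (Submodule.Quotient.mk x) = Submodule.Quotient.mk x := by
  induction m, h using Nat.le_induction with
  | base =>
    rw [ARSys.tr, show (homOfLE (le_refl n)).op = 𝟙 (op n) from rfl, (adicSystem I M).map_id]
    rfl
  | succ m h ih =>
    rw [← ProDerLib.tr_tr _ h (Nat.le_succ m), ModuleCat.comp_apply]
    refine (congrArg (ARSys.tr (adicSystem I M) h) ?_).trans ih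
    show (adicSystem I M).map (homOfLE (Nat.le_add_right m 1)).op _ = _
    exact (ConcreteCategory.congr_hom (Functor.ofOpSequence_map_homOfLE_succ _ m) _).trans rfl

/-- The augmentation to `M / I^(n+1) M` in degree zero. -/
def augM {fs : List A} (hfs : ∀ a ∈ fs, a ∈ I) (n : ℕ) :
    (koszulCx M (fs.map (· ^ (n + 1)))).X 0 ⟶ (adicSystem I M).obj (op n) :=
  ModuleCat.ofHom (((I ^ (n + 1) • (⊤ : Submodule A M))).mkQ.comp (kaug M (fs.map (· ^ (n + 1)))))

theorem ofList_pow_le {fs : List A} (hfs : ∀ a ∈ fs, a ∈ I) (n : ℕ) :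
    Ideal.ofList (fs.map (· ^ n)) ≤ I ^ n := by
  refine Ideal.span_le.mpr fun a ha => ?_
  obtain ⟨b, hb, rfl⟩ := List.mem_map.mp ha
  exact Ideal.pow_mem_pow (hfs b hb) n

/-- The augmentation of the system of Koszul complexes. -/
def κ {fs : List A} (hfs : ∀ a ∈ fs, a ∈ I) :
    sys M fs ⟶ adicSystem I M ⋙ HomologicalComplex.single (ModuleCat.{u} A) (ComplexShape.up ℤ) 0 where
  app n := HomologicalComplex.mkHomToSingle (augM M I hfs n.unop) fun i hi => by
    obtain rfl : i = -1 := by simp [ComplexShape.up] at hi; omega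
    refine ModuleCat.hom_ext (LinearMap.ext fun x => ?_)
    exact (Submodule.Quotient.mk_eq_zero _).mpr (Submodule.smul_mono_left (ofList_pow_le I hfs _)
      ((kaug_mem_iff M _ _).mpr ⟨x, rfl⟩))
  naturality {n m} g := by
    refine HomologicalComplex.to_single_hom_ext ?_
    simp only [HomologicalComplex.comp_f, Functor.comp_map, HomologicalComplex.mkHomToSingle_f,
      HomologicalComplex.single_map_f_self, Category.assoc, Iso.inv_hom_id_assoc]
    rw [← Category.assoc, ← Category.assoc]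
    congr 1
    refine ModuleCat.hom_ext (LinearMap.ext fun x => ?_)
    show Submodule.Quotient.mk (kaug M _ ((invTrans M _ fs).f 0 x)) =
      ARSys.tr (adicSystem I M) (leOfHom g.unop) (Submodule.Quotient.mk (kaug M _ x))
    rw [kaug_invTrans, adicSystem_tr_mk]

theorem κ_f_zero {fs : List A} (hfs : ∀ a ∈ fs, a ∈ I) (n : ℕ) (x : (koszulCx M (fs.map (· ^ (n + 1)))).X 0) :
    (top0 ((adicSystem I M).obj (op n))).hom (((κ M I hfs).app (op n)).f 0 x) =
      Submodule.Quotient.mk (kaug M _ x) := by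
  have e : ((κ M I hfs).app (op n)).f 0 = augM M I hfs n ≫
      (top0 ((adicSystem I M).obj (op n))).inv :=
    by simp only [κ]; exact HomologicalComplex.mkHomToSingle_f (φ := augM M I hfs n) _
  rw [e, ModuleCat.comp_apply]
  exact ConcreteCategory.congr_hom (top0 ((adicSystem I M).obj (op n))).inv_hom_id _

/-- The augmentation is injective on cohomology up to transition. -/
theorem inj_κ [IsNoetherianRing A] [Module.Finite A M] {fs : List A} (hfs : Ideal.ofList fs = I) (i : ℤ) :
    Inj (κ M I (fun a ha => hfs ▸ Ideal.subset_span ha)) i := fun n => by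
  rcases lt_trichotomy i 0 with hi | rfl | hi
  · obtain ⟨m, h, H⟩ := exists_boundary M fs i (i - 1) (by omega) hi (n + 1)
    refine ⟨m, by omega, fun z hz w _ => ?_⟩
    obtain ⟨v, hv⟩ := H ((invTrans M (by omega : m ≤ m + 1) fs).f i z) (by rw [d_f]; erw [hz, map_zero])
    refine ⟨v, hv.trans ?_⟩
    show ((invTrans M (by omega : m ≤ m + 1) fs) ≫ invTrans M h fs).f i z = (invTrans M _ fs).f i z
    rw [invTrans_comp]
  · obtain ⟨k, hk⟩ := Ideal.exists_pow_le_of_le_radical_of_fg (I := I)
      (J := Ideal.ofList (fs.map (· ^ (n + 1)))) (by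
        rw [← hfs]
        exact Ideal.span_le.mpr fun a ha => ⟨n + 1, Ideal.subset_span (List.mem_map.mpr ⟨a, ha, rfl⟩)⟩)
      (IsNoetherian.noetherian I)
    refine ⟨max n k, le_max_left n k, fun z _ w hw => ?_⟩
    refine (kaug_mem_iff M _ _).mp ?_
    erw [kaug_invTrans]
    refine Submodule.smul_mono_left (le_trans (Ideal.pow_le_pow_right (by omega)) hk)
      ((Submodule.Quotient.mk_eq_zero _).mp ?_ : _ ∈ I ^ (max n k + 1) • (⊤ : Submodule A M))
    rw [← κ_f_zero M I (fun a ha => hfs ▸ Ideal.subset_span ha)]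
    refine (congrArg (top0 ((adicSystem I M).obj (op (max n k)))).hom (hw.trans ?_)).trans
      (map_zero (top0 ((adicSystem I M).obj (op (max n k)))).hom.hom)
    haveI := ModuleCat.subsingleton_of_isZero (HomologicalComplex.isZero_single_obj_X (ComplexShape.up ℤ) 0
      ((adicSystem I M).obj (op (max n k))) (0 - 1) (by omega))
    rw [Subsingleton.elim (α := ((HomologicalComplex.single (ModuleCat.{u} A) (ComplexShape.up ℤ) 0).obj
      ((adicSystem I M).obj (op (max n k)))).X (0 - 1)) w 0]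
    exact map_zero _
  · refine ⟨n, le_rfl, fun z _ w _ => ⟨0, ?_⟩⟩
    haveI := subsingleton_X M (fs.map (· ^ (n + 1))) i (Or.inl hi)
    exact Subsingleton.elim (α := (koszulCx M (fs.map (· ^ (n + 1)))).X i) _ _

/-- The augmentation is surjective on cohomology up to transition. -/
theorem surj_κ {fs : List A} (hfs : ∀ a ∈ fs, a ∈ I) (i : ℤ) : Surj (κ M I hfs) i := fun n => by
  refine ⟨n, le_rfl, fun y _ => ?_⟩
  by_cases hi : i = 0
  · subst hi
    obtain ⟨x₀, hx₀⟩ := Submodule.mkQ_surjective _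
      ((top0 ((adicSystem I M).obj (op n))).hom ((ARSys.tr (adicSystem I M ⋙ HomologicalComplex.single (ModuleCat.{u} A) (ComplexShape.up ℤ) 0) (le_refl n)).f 0 y))
    obtain ⟨x, rfl⟩ := kaug_surjective M (fs.map (· ^ (n + 1))) x₀
    haveI := subsingleton_X M (fs.map (· ^ (n + 1))) (0 + 1) (Or.inl one_pos)
    refine ⟨x, 0, Subsingleton.elim (α := (koszulCx M (fs.map (· ^ (n + 1)))).X (0 + 1)) _ _, ?_⟩
    rw [map_zero, add_zero]
    refine (top0 ((adicSystem I M).obj (op n))).toLinearEquiv.injective ?_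
    exact hx₀.symm.trans (κ_f_zero M I hfs n x).symm
  · refine ⟨0, 0, map_zero _, ?_⟩
    haveI := ModuleCat.subsingleton_of_isZero
      (HomologicalComplex.isZero_single_obj_X (ComplexShape.up ℤ) 0 ((adicSystem I M).obj (op n)) i hi)
    exact Subsingleton.elim (α := ((HomologicalComplex.single (ModuleCat.{u} A) (ComplexShape.up ℤ) 0).obj
      ((adicSystem I M).obj (op n))).X i) _ _

end Groth.Agent.DTenProIso
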