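import Groth.Agent.DTenProIso.Devissage
import Groth.Agent.ProDerLib.EssConst
import Groth.Prelude.Def_DTen

/-!
# The derived and the plain tensor product with the adic system are pro-isomorphic
-/

set_option autoImplicit false
set_option linter.style.haveILetI false
set_option backward.isDefEq.respectTransparency false

universe u

open CategoryTheory CategoryTheory.Limits Opposite CohIII MonoidalCategory CochainComplex
attribute [local instance] HasDerivedCategory.standard

noncomputable section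

namespace Groth.Agent.DTenProIso

open Groth.Agent.KoszulCech Groth.Agent.LocCohLib

section Formal

variable {D : Type*} [Category D]

theorem isProIso_whiskerRight {X Y : ARSys.PS D} {f : X ⟶ Y} (hf : DerCA.IsProIso f) {E : Type*} [Category E]
    (F : D ⥤ E) : DerCA.IsProIso (Functor.whiskerRight f F) := fun n => by
  obtain ⟨m, h, b, hb, hb'⟩ := hf n
  exact ⟨m, h, F.map b, (F.map_comp _ _).symm.trans (congrArg F.map hb),
    (F.map_comp _ _).symm.trans (congrArg F.map hb')⟩

theorem isProIso_cancel_left {X Y Z : ARSys.PS D} {f : X ⟶ Y} {g : Y ⟶ Z} (hf : DerCA.IsProIso f)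
    (hfg : DerCA.IsProIso (f ≫ g)) : DerCA.IsProIso g := fun n => by
  obtain ⟨m, h, c, hc, hc'⟩ := hfg n
  obtain ⟨m', h', d, -, hd⟩ := hf m
  refine ⟨m', h.trans h', ARSys.tr Z h' ≫ c ≫ f.app (op n), ?_, ?_⟩
  · have e : g.app (op m') ≫ ARSys.tr Z h' = ARSys.tr Y h' ≫ g.app (op m) := (g.naturality (homOfLE h').op).symm
    rw [← Category.assoc, e, ← hd]
    simp only [Category.assoc]
    rw [← Category.assoc (f.app (op m)), ← NatTrans.comp_app, ← Category.assoc ((f ≫ g).app (op m)), hc]
    have e' : ARSys.tr X h ≫ f.app (op n) = f.app (op m) ≫ ARSys.tr Y h := f.naturality (homOfLE h).op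
    rw [e', ← Category.assoc, hd]
    exact ProDerLib.trD Y h h'
  · simp only [Category.assoc, ← NatTrans.comp_app, hc']
    exact ProDerLib.trD Z h h'

theorem isProIso_comp_iso {X Y Z : ARSys.PS D} (f : X ⟶ Y) (g : Y ⟶ Z) [∀ n, IsIso (f.app n)]
    (hg : DerCA.IsProIso g) : DerCA.IsProIso (f ≫ g) := fun n => by
  obtain ⟨m, h, b, hb, hb'⟩ := hg n
  refine ⟨m, h, b ≫ inv (f.app (op n)), ?_, by simp [hb']⟩
  have e' : f.app (op m) ≫ ARSys.tr Y h = ARSys.tr X h ≫ f.app (op n) := (f.naturality (homOfLE h).op).symm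
  rw [NatTrans.comp_app, Category.assoc, reassoc_of% hb, reassoc_of% e', IsIso.hom_inv_id, Category.comp_id]

end Formal

variable {A : Type u} [CommRing A]

theorem isKFlatFor_koszulCx : ∀ l : List A, KFlat.IsKFlatFor (TF A) (koszulCx (ModuleCat.of A A) l)
  | [] => KFlat.isKFlatFor_single (TF A) 0 (ModuleCat.of A A) (KFlat.goodObj_of_flat A inferInstance)
  | f :: l => (KFlat.twoOfThree_mappingCone (TF A) (f • 𝟙 (koszulCx (ModuleCat.of A A) l))).1
      (isKFlatFor_koszulCx l) (isKFlatFor_koszulCx l)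

theorem isZero_homology_of_isZero_X (L : Cx A) (i : ℤ) (h : IsZero (L.X i)) :
    IsZero ((DerivedCategory.homologyFunctor (ModuleCat.{u} A) i).obj (DerivedCategory.Q.obj L)) :=
  IsZero.of_iso ((L.exactAt_iff i).2 (ShortComplex.exact_of_isZero_X₂ _ h)).isZero_homology
    ((DerivedCategory.homologyFunctorFactors (ModuleCat.{u} A) i).app L)

theorem isProIso_Q {X Y : ARSys.PS (Cx A)} (φ : X ⟶ Y) (a b : ℤ) (hab : a ≤ b)
    (hX : ∀ n i, i < a ∨ b < i → IsZero ((X.obj (op n)).X i))
    (hY : ∀ n i, i < a ∨ b < i → IsZero ((Y.obj (op n)).X i)) (h : ∀ i, Inj φ i ∧ Surj φ i) :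
    DerCA.IsProIso (Functor.whiskerRight φ DerivedCategory.Q) :=
  ProDerLib.isProIso_of_homology _ _ _ a b hab (fun n i hi => isZero_homology_of_isZero_X _ i (hX n i hi))
    (fun n i hi => isZero_homology_of_isZero_X _ i (hY n i hi)) fun i => by
    refine ProDerLib.isProIso_of_square _ _
      (Functor.whiskerLeft X (DerivedCategory.homologyFunctorFactors (ModuleCat.{u} A) i).inv)
      (Functor.whiskerLeft Y (DerivedCategory.homologyFunctorFactors (ModuleCat.{u} A) i).inv) ?_
      ((h i).1.isProIso_homology (h i).2)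
    ext n : 2
    exact ((DerivedCategory.homologyFunctorFactors (ModuleCat.{u} A) i).inv.naturality (φ.app n)).symm

/-- The symmetry, as a natural isomorphism in one variable. -/
def braidR (K : Cx A) : tensorLeft K ≅ KFlat.totR (TF A) K :=
  NatIso.ofComponents (fun L => DTen.braidCx K L) fun {L L'} g => DTen.braidCx_naturality (𝟙 K) g

theorem isProIso_εLeft [IsNoetherianRing A] [DTen.HasLTen A] [DTen.KFlatComputes A] (I : Ideal A)
    (K : Cx A) (a b : ℤ) (hK : ∀ i, i < a ∨ b < i → IsZero (K.X i)) (hKf : ∀ i, Module.Finite A (K.X i)) :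
    DerCA.IsProIso (Functor.whiskerLeft (quoSys I (ModuleCat.of A A)) (DTen.εLeft A K)) := by
  obtain ⟨s, hs⟩ := (IsNoetherian.noetherian I : I.FG)
  have hfs : Ideal.ofList s.toList = I := by
    rw [← hs]
    exact congrArg Ideal.span (Set.ext fun x => Finset.mem_toList)
  let φ := κA I hfs
  let S := sys (ModuleCat.of A A) s.toList
  have hS : ∀ n i, i < -(s.toList.length : ℤ) ∨ (0 : ℤ) < i → IsZero ((S.obj (op n)).X i) := fun n i hi =>
    @ModuleCat.isZero_of_subsingleton _ _ _ (subsingleton_X _ _ i (by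
      simp only [List.length_map]; omega))
  have hN : ∀ n i, i < -(s.toList.length : ℤ) ∨ (0 : ℤ) < i →
      IsZero (((quoSys I (ModuleCat.of A A)).obj (op n)).X i) := fun n i hi =>
    HomologicalComplex.isZero_single_obj_X (ComplexShape.up ℤ) 0 _ i (by omega)
  have h₁ : DerCA.IsProIso (Functor.whiskerRight φ DerivedCategory.Q) :=
    isProIso_Q φ _ 0 (by omega) hS hN fun i => ⟨inj_κ _ I hfs i, surj_κ _ I _ i⟩
  have hz : ∀ (L : Cx A), (∀ i, i < -(s.toList.length : ℤ) ∨ (0 : ℤ) < i → IsZero (L.X i)) →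
      ∀ i, i < min a b - s.toList.length ∨ b < i → IsZero (((KFlat.totR (TF A) K).obj L).X i) := fun L hL i hi =>
    isZero_tot fun p q hpq => by
      by_cases hp : p < -(s.toList.length : ℤ) ∨ (0 : ℤ) < p
      · exact Or.inl (hL p hp)
      · exact Or.inr (hK q (by omega))
  have h₂ : DerCA.IsProIso (Functor.whiskerRight (τ I hfs K) DerivedCategory.Q) :=
    isProIso_Q _ (min a b - s.toList.length) b (by omega) (fun n => hz _ (hS n)) (fun n => hz _ (hN n))
      (good_of_bounded I hfs K a b hK hKf)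
  have h₃ : DerCA.IsProIso (Functor.whiskerRight φ (tensorLeft K ⋙ DerivedCategory.Q)) := by
    refine ProDerLib.isProIso_of_square _ _
      (Functor.whiskerLeft S (Functor.whiskerRight (braidR K).inv DerivedCategory.Q))
      (Functor.whiskerLeft (quoSys I (ModuleCat.of A A)) (Functor.whiskerRight (braidR K).inv DerivedCategory.Q)) ?_ h₂
    ext n : 2
    exact ((Functor.whiskerRight (braidR K).inv DerivedCategory.Q).naturality (φ.app n)).symm
  haveI : ∀ n, IsIso ((Functor.whiskerLeft S (DTen.εLeft A K)).app n) := fun n =>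
    DTen.KFlatComputes.isIso_counit K (S.obj n)
      (Or.inr ((KFlat.isKFlatFor_iff_tensor A _).1 (isKFlatFor_koszulCx _)))
  refine isProIso_cancel_left (f := Functor.whiskerRight φ (DerivedCategory.Q ⋙ (DTen.LTen A).obj (DerivedCategory.Q.obj K)))
    (isProIso_whiskerRight h₁ ((DTen.LTen A).obj (DerivedCategory.Q.obj K))) ?_
  have e : Functor.whiskerRight φ (DerivedCategory.Q ⋙ (DTen.LTen A).obj (DerivedCategory.Q.obj K)) ≫
      Functor.whiskerLeft (quoSys I (ModuleCat.of A A)) (DTen.εLeft A K) =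
    Functor.whiskerLeft S (DTen.εLeft A K) ≫ Functor.whiskerRight φ (tensorLeft K ⋙ DerivedCategory.Q) := by
    ext n : 2
    exact (DTen.εLeft A K).naturality (φ.app n)
  rw [e]
  exact isProIso_comp_iso _ _ h₃

end Groth.Agent.DTenProIso
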