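import Groth.Agent.KoszulCech.Cone
import Groth.Prelude.Def_DerCA
import Groth.Agent.ProDerLib.Amplitude

/-!
# Pro-isomorphisms of inverse systems of complexes of modules, on cycles
-/

set_option autoImplicit false
set_option linter.style.haveILetI false
set_option backward.isDefEq.respectTransparency false

universe u

open CategoryTheory CategoryTheory.Limits Opposite

noncomputable section

namespace Groth.Agent.DTenProIso

open Groth.Agent.KoszulCech Groth.Agent.LocCohLib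

variable {A : Type u} [CommRing A]

/-- Complexes of modules. -/
abbrev Cx (A : Type u) [CommRing A] : Type (u + 1) := CochainComplex (ModuleCat.{u} A) ℤ

theorem d_f {K L : Cx A} (φ : K ⟶ L) (i j : ℤ) (x : K.X i) : L.d i j (φ.f i x) = φ.f j (K.d i j x) :=
  ConcreteCategory.congr_hom (φ.comm i j) x

theorem d_d (K : Cx A) (i j k : ℤ) (x : K.X i) : K.d j k (K.d i j x) = 0 :=
  ConcreteCategory.congr_hom (K.d_comp_d i j k) x

theorem tr_f (X : ARSys.PS (Cx A)) {a b c : ℕ} (h : a ≤ b) (h' : b ≤ c) (i : ℤ)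
    (x : (X.obj (op c)).X i) :
    (ARSys.tr X h).f i ((ARSys.tr X h').f i x) = (ARSys.tr X (h.trans h')).f i x := by
  rw [← ProDerLib.tr_tr X h h']
  rfl

theorem nat_f {X Y : ARSys.PS (Cx A)} (f : X ⟶ Y) {a b : ℕ} (h : a ≤ b) (i : ℤ) (x : (X.obj (op b)).X i) :
    (ARSys.tr Y h).f i ((f.app (op b)).f i x) = (f.app (op a)).f i ((ARSys.tr X h).f i x) :=
  ConcreteCategory.congr_hom (HomologicalComplex.congr_hom (f.naturality (homOfLE h).op) i).symm x

variable {X Y : ARSys.PS (Cx A)}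

/-- Classes killed by the map are eventually killed by the transition maps. -/
def Inj (f : X ⟶ Y) (i : ℤ) : Prop :=
  ∀ n : ℕ, ∃ (m : ℕ) (h : n ≤ m), ∀ z : (X.obj (op m)).X i, (X.obj (op m)).d i (i + 1) z = 0 →
    ∀ w : (Y.obj (op m)).X (i - 1), (f.app (op m)).f i z = (Y.obj (op m)).d (i - 1) i w →
      ∃ v : (X.obj (op n)).X (i - 1), (X.obj (op n)).d (i - 1) i v = (ARSys.tr X h).f i z

/-- Classes are eventually in the image of the map. -/
def Surj (f : X ⟶ Y) (i : ℤ) : Prop :=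
  ∀ n : ℕ, ∃ (m : ℕ) (h : n ≤ m), ∀ y : (Y.obj (op m)).X i, (Y.obj (op m)).d i (i + 1) y = 0 →
    ∃ (x : (X.obj (op n)).X i) (w : (Y.obj (op n)).X (i - 1)), (X.obj (op n)).d i (i + 1) x = 0 ∧
      (ARSys.tr Y h).f i y = (f.app (op n)).f i x + (Y.obj (op n)).d (i - 1) i w

theorem Inj.isProIso_homology {f : X ⟶ Y} {i : ℤ} (hi : Inj f i) (hs : Surj f i) :
    DerCA.IsProIso (Functor.whiskerRight f (HomologicalComplex.homologyFunctor (ModuleCat.{u} A) (ComplexShape.up ℤ) i)) := by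
  intro n
  obtain ⟨m₁, h₁, H₁⟩ := hi n
  obtain ⟨m₂, h₂, H₂⟩ := hs m₁
  let K := X.obj (op m₁)
  let L := Y.obj (op m₁)
  let N := X.obj (op n)
  let a : K.homology i →ₗ[A] L.homology i := (HomologicalComplex.homologyMap (f.app (op m₁)) i).hom
  let t : K.homology i →ₗ[A] N.homology i := (HomologicalComplex.homologyMap (ARSys.tr X h₁) i).hom
  let s : (Y.obj (op m₂)).homology i →ₗ[A] L.homology i :=
    (HomologicalComplex.homologyMap (ARSys.tr Y h₂) i).hom
  have hker : LinearMap.ker a ≤ LinearMap.ker t := fun z hz => by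
    obtain ⟨z, rfl⟩ := cls_surjective K i z
    rw [LinearMap.mem_ker] at hz ⊢
    simp only [a, t] at hz ⊢
    rw [homologyMap_cls, cls_eq_zero (i := i - 1) (by omega)] at hz
    obtain ⟨w, hw⟩ := hz
    obtain ⟨v, hv⟩ := H₁ z.1 (zmod_d rfl z) w hw.symm
    rw [homologyMap_cls]
    exact (cls_eq_zero (i := i - 1) (by omega) _).mpr ⟨v, hv⟩
  have hran : ∀ y, s y ∈ LinearMap.range a := fun y => by
    obtain ⟨y, rfl⟩ := cls_surjective (Y.obj (op m₂)) i y
    obtain ⟨x, w, hx, hw⟩ := H₂ y.1 (zmod_d rfl y)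
    refine ⟨cls K i ⟨x, mem_zmod hx⟩, ?_⟩
    simp only [a, s]
    rw [homologyMap_cls, homologyMap_cls, ← sub_eq_zero, ← map_sub]
    refine (cls_eq_zero (i := i - 1) (by omega) _).mpr ⟨-w, ?_⟩
    show L.d (i - 1) i (-w) = (f.app (op m₁)).f i x - (ARSys.tr Y h₂).f i y.1
    rw [map_neg, hw]
    abel
  let t' : LinearMap.range a →ₗ[A] N.homology i :=
    (Submodule.liftQ _ t hker).comp a.quotKerEquivRange.symm.toLinearMap
  have ht' : ∀ z, t' ⟨a z, LinearMap.mem_range_self a z⟩ = t z := fun z => by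
    show Submodule.liftQ _ t hker (a.quotKerEquivRange.symm _) = _
    rw [LinearMap.quotKerEquivRange_symm_apply_image a z]
    rfl
  refine ⟨m₂, h₁.trans h₂, ModuleCat.ofHom (t'.comp (s.codRestrict _ hran)), ?_, ?_⟩
  · refine ModuleCat.hom_ext (LinearMap.ext fun z => ?_)
    let z₁ : K.homology i := (HomologicalComplex.homologyMap (ARSys.tr X h₂) i).hom z
    have h3 : s ((HomologicalComplex.homologyMap (f.app (op m₂)) i).hom z) = a z₁ := by
      have e : f.app (op m₂) ≫ ARSys.tr Y h₂ = ARSys.tr X h₂ ≫ f.app (op m₁) :=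
        (f.naturality (homOfLE h₂).op).symm
      have e' := congrArg (fun u => HomologicalComplex.homologyMap u i) e
      rw [HomologicalComplex.homologyMap_comp, HomologicalComplex.homologyMap_comp] at e'
      exact ConcreteCategory.congr_hom e' z
    show t' (s.codRestrict _ hran ((HomologicalComplex.homologyMap (f.app (op m₂)) i).hom z)) = _
    rw [show s.codRestrict _ hran ((HomologicalComplex.homologyMap (f.app (op m₂)) i).hom z) =
      ⟨a z₁, LinearMap.mem_range_self a z₁⟩ from Subtype.ext h3, ht']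
    show (HomologicalComplex.homologyMap (ARSys.tr X h₁) i).hom ((HomologicalComplex.homologyMap (ARSys.tr X h₂) i).hom z) =
      (HomologicalComplex.homologyMap (ARSys.tr X (h₁.trans h₂)) i).hom z
    rw [← ProDerLib.tr_tr X h₁ h₂, HomologicalComplex.homologyMap_comp]
    rfl
  · refine ModuleCat.hom_ext (LinearMap.ext fun y => ?_)
    obtain ⟨z, hz⟩ := hran y
    show (HomologicalComplex.homologyMap (f.app (op n)) i).hom (t' (s.codRestrict _ hran y)) = _
    rw [show s.codRestrict _ hran y = ⟨a z, LinearMap.mem_range_self a z⟩ from Subtype.ext hz.symm, ht']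
    have e : ARSys.tr X h₁ ≫ f.app (op n) = f.app (op m₁) ≫ ARSys.tr Y h₁ := f.naturality (homOfLE h₁).op
    have e' := congrArg (fun u => HomologicalComplex.homologyMap u i) e
    rw [HomologicalComplex.homologyMap_comp, HomologicalComplex.homologyMap_comp] at e'
    refine (ConcreteCategory.congr_hom e' z).trans ?_
    show (HomologicalComplex.homologyMap (ARSys.tr Y h₁) i).hom (a z) =
      (HomologicalComplex.homologyMap (ARSys.tr Y (h₁.trans h₂)) i).hom y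
    rw [hz, ← ProDerLib.tr_tr Y h₁ h₂, HomologicalComplex.homologyMap_comp]
    rfl

/-- A levelwise short exact sequence, on elements. -/
structure SES {P Q R : Cx A} (ι : P ⟶ Q) (π : Q ⟶ R) : Prop where
  inj : ∀ k, Function.Injective (ι.f k)
  surj : ∀ k, Function.Surjective (π.f k)
  exact : ∀ k x, π.f k x = 0 ↔ ∃ a, ι.f k a = x

theorem SES.of_shortExact {S : ShortComplex (Cx A)} (hS : S.ShortExact) : SES S.f S.g where
  inj k := by
    haveI : Mono S.f := hS.mono_f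
    exact (ModuleCat.mono_iff_injective (S.f.f k)).mp inferInstance
  surj k := by
    haveI : Epi S.g := hS.epi_g
    exact (ModuleCat.epi_iff_surjective (S.g.f k)).mp inferInstance
  exact k x := by
    have h := ((ShortComplex.ShortExact.map_of_exact hS
      (HomologicalComplex.eval (ModuleCat.{u} A) (ComplexShape.up ℤ) k)).exact)
    rw [ShortComplex.moduleCat_exact_iff] at h
    exact ⟨fun hx => h x hx, fun ⟨a, ha⟩ => ha ▸
      ConcreteCategory.congr_hom (HomologicalComplex.congr_hom S.zero k) a⟩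

section Five

variable {P Q R P' Q' R' : ARSys.PS (Cx A)} {ι : P ⟶ Q} {π : Q ⟶ R} {ι' : P' ⟶ Q'} {π' : Q' ⟶ R'}
  {a : P ⟶ P'} {b : Q ⟶ Q'} {c : R ⟶ R'}
  (hs : ∀ n, SES (ι.app (op n)) (π.app (op n))) (hs' : ∀ n, SES (ι'.app (op n)) (π'.app (op n)))
  (hab : ι ≫ b = a ≫ ι') (hbc : π ≫ c = b ≫ π')

include hs hs' hab hbc

theorem Inj.five {i j : ℤ} (hij : j + 1 = i) (hc : Inj c i) (hc' : Surj c j) (ha : Inj a i) : Inj b i := by
  obtain rfl : j = i - 1 := by omega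
  intro n
  obtain ⟨m₁, h₁, Ha⟩ := ha n
  obtain ⟨m₂, h₂, Hc'⟩ := hc' m₁
  obtain ⟨m, h₃, Hc⟩ := hc m₂
  refine ⟨m, h₁.trans (h₂.trans h₃), fun z hz w hw => ?_⟩
  have eb : ∀ k l (x : (P.obj (op k)).X l), (b.app (op k)).f l ((ι.app (op k)).f l x) =
      (ι'.app (op k)).f l ((a.app (op k)).f l x) := fun k l x =>
    ConcreteCategory.congr_hom (HomologicalComplex.congr_hom (congr_app hab (op k)) l) x
  have ec : ∀ k l (x : (Q.obj (op k)).X l), (c.app (op k)).f l ((π.app (op k)).f l x) =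
      (π'.app (op k)).f l ((b.app (op k)).f l x) := fun k l x =>
    ConcreteCategory.congr_hom (HomologicalComplex.congr_hom (congr_app hbc (op k)) l) x
  obtain ⟨v, hv⟩ := Hc ((π.app (op m)).f i z) (by rw [d_f, hz, map_zero]) ((π'.app (op m)).f (i - 1) w)
    (by rw [ec, hw, d_f])
  obtain ⟨p, rfl⟩ := (hs m₂).surj _ v
  set z₂ := (ARSys.tr Q h₃).f i z with hz₂
  set w₂ := (ARSys.tr Q' h₃).f (i - 1) w with hw₂
  have hbz : (b.app (op m₂)).f i z₂ = (Q'.obj (op m₂)).d (i - 1) i w₂ := by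
    rw [hz₂, hw₂, ← nat_f, hw, d_f]
  have hπ : (π.app (op m₂)).f i (z₂ - (Q.obj (op m₂)).d (i - 1) i p) = 0 := by
    rw [map_sub, ← d_f, hv, hz₂, ← nat_f, sub_self]
  set u := w₂ - (b.app (op m₂)).f (i - 1) p with hu
  have hud : (Q'.obj (op m₂)).d (i - 1) i u = (b.app (op m₂)).f i (z₂ - (Q.obj (op m₂)).d (i - 1) i p) := by
    rw [hu, map_sub, map_sub, hbz, d_f (b.app (op m₂))]
  obtain ⟨x, y, hx, hy⟩ := Hc' ((π'.app (op m₂)).f (i - 1) u) (by
    rw [show i - 1 + 1 = i by omega, d_f, hud, ← ec, hπ, map_zero])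
  obtain ⟨q, rfl⟩ := (hs m₁).surj _ x
  obtain ⟨r, rfl⟩ := (hs' m₁).surj _ y
  rw [show i - 1 + 1 = i by omega] at hx
  set z₁ := (ARSys.tr Q h₂).f i (z₂ - (Q.obj (op m₂)).d (i - 1) i p) - (Q.obj (op m₁)).d (i - 1) i q with hz₁
  obtain ⟨a₁, ha₁⟩ := ((hs m₁).exact i z₁).mp (by
    rw [hz₁, map_sub, ← nat_f, hπ, map_zero, ← d_f, hx, sub_zero])
  obtain ⟨α, hα⟩ := ((hs' m₁).exact (i - 1) ((ARSys.tr Q' h₂).f (i - 1) u - (b.app (op m₁)).f (i - 1) q -
      (Q'.obj (op m₁)).d (i - 1 - 1) (i - 1) r)).mp (by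
    rw [map_sub, map_sub, ← nat_f, hy, ← ec, ← d_f]
    abel)
  have ha₁d : (P.obj (op m₁)).d i (i + 1) a₁ = 0 := (hs m₁).inj _ (by
    rw [map_zero, ← d_f, ha₁, hz₁, map_sub, d_f, map_sub, d_d, sub_zero, d_d, sub_zero, d_f, hz, map_zero,
      map_zero])
  have haα : (a.app (op m₁)).f i a₁ = (P'.obj (op m₁)).d (i - 1) i α := (hs' m₁).inj _ (by
    rw [← eb, ha₁, ← d_f, hα, hz₁, map_sub ((Q'.obj (op m₁)).d (i - 1) i).hom, map_sub ((Q'.obj (op m₁)).d (i - 1) i).hom,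
      d_d, sub_zero, d_f (ARSys.tr Q' h₂), hud, d_f (b.app (op m₁)), nat_f b h₂, map_sub ((b.app (op m₁)).f i).hom])
  obtain ⟨β, hβ⟩ := Ha a₁ ha₁d α haα
  refine ⟨(ARSys.tr Q (h₁.trans h₂)).f (i - 1) p + (ARSys.tr Q h₁).f (i - 1) q + (ι.app (op n)).f (i - 1) β, ?_⟩
  rw [map_add, map_add, d_f, d_f, d_f, hβ, ← nat_f ι h₁, ha₁, hz₁]
  simp only [map_sub, tr_f, hz₂]
  abel

theorem Surj.five {i j : ℤ} (hij : i + 1 = j) (hc : Surj c i) (ha : Inj a j) (ha' : Surj a i) : Surj b i := by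
  subst hij
  intro n
  obtain ⟨m₁, h₁, Ha'⟩ := ha' n
  obtain ⟨m₂, h₂, Ha⟩ := ha m₁
  obtain ⟨m, h₃, Hc⟩ := hc m₂
  refine ⟨m, h₁.trans (h₂.trans h₃), fun y hy => ?_⟩
  have eb : ∀ k l (x : (P.obj (op k)).X l), (b.app (op k)).f l ((ι.app (op k)).f l x) =
      (ι'.app (op k)).f l ((a.app (op k)).f l x) := fun k l x =>
    ConcreteCategory.congr_hom (HomologicalComplex.congr_hom (congr_app hab (op k)) l) x
  have ec : ∀ k l (x : (Q.obj (op k)).X l), (c.app (op k)).f l ((π.app (op k)).f l x) =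
      (π'.app (op k)).f l ((b.app (op k)).f l x) := fun k l x =>
    ConcreteCategory.congr_hom (HomologicalComplex.congr_hom (congr_app hbc (op k)) l) x
  obtain ⟨x, v, hx, hv⟩ := Hc ((π'.app (op m)).f i y) (by rw [d_f, hy, map_zero])
  obtain ⟨p, rfl⟩ := (hs m₂).surj _ x
  obtain ⟨q, rfl⟩ := (hs' m₂).surj _ v
  set y₂ := (ARSys.tr Q' h₃).f i y - (b.app (op m₂)).f i p - (Q'.obj (op m₂)).d (i - 1) i q with hy₂
  obtain ⟨α, hα⟩ := ((hs' m₂).exact i y₂).mp (by
    rw [hy₂, map_sub, map_sub, ← nat_f, hv, ← ec, ← d_f]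
    abel)
  obtain ⟨a₂, ha₂⟩ := ((hs m₂).exact (i + 1) ((Q.obj (op m₂)).d i (i + 1) p)).mp (by rw [← d_f, hx])
  have hae : (a.app (op m₂)).f (i + 1) a₂ = (P'.obj (op m₂)).d i (i + 1) (-α) := (hs' m₂).inj _ (by
    rw [← eb, ha₂, map_neg, map_neg, ← d_f, ← d_f, hα, hy₂, map_sub, map_sub, d_d, sub_zero, d_f (ARSys.tr Q' h₃), hy,
      map_zero, zero_sub, neg_neg])
  have ha₂d : (P.obj (op m₂)).d (i + 1) (i + 1 + 1) a₂ = 0 := (hs m₂).inj _ (by
    rw [map_zero, ← d_f, ha₂, d_d])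
  have H := Ha a₂ ha₂d
  rw [show i + 1 - 1 = i by omega] at H
  obtain ⟨β, hβ⟩ := H _ hae
  set p₁ := (ARSys.tr Q h₂).f i p - (ι.app (op m₁)).f i β with hp₁
  set α₁ := (ARSys.tr P' h₂).f i α + (a.app (op m₁)).f i β with hα₁
  have hp₁d : (Q.obj (op m₁)).d i (i + 1) p₁ = 0 := by
    rw [hp₁, map_sub, d_f, d_f, hβ, ← ha₂, nat_f, sub_self]
  have hα₁d : (P'.obj (op m₁)).d i (i + 1) α₁ = 0 := by
    rw [hα₁, map_add, d_f, d_f, hβ, ← nat_f, ← map_add, hae, map_neg, add_neg_cancel, map_zero]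
  obtain ⟨a₃, w₃, ha₃, hw₃⟩ := Ha' α₁ hα₁d
  refine ⟨(ARSys.tr Q h₁).f i p₁ + (ι.app (op n)).f i a₃,
    (ARSys.tr Q' (h₁.trans h₂)).f (i - 1) q + (ι'.app (op n)).f (i - 1) w₃, ?_, ?_⟩
  · rw [map_add, d_f, hp₁d, map_zero, d_f, ha₃, map_zero, add_zero]
  · have hy' : (ARSys.tr Q' h₃).f i y = (ι'.app (op m₂)).f i α + (b.app (op m₂)).f i p +
        (Q'.obj (op m₂)).d (i - 1) i q := by
      rw [hα, hy₂]; abel
    have e : (ARSys.tr P' h₁).f i ((ARSys.tr P' h₂).f i α) = (a.app (op n)).f i a₃ +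
        (P'.obj (op n)).d (i - 1) i w₃ - (a.app (op n)).f i ((ARSys.tr P h₁).f i β) := by
      rw [← hw₃, hα₁, map_add, nat_f a h₁, add_sub_cancel_right]
    rw [← tr_f Q' (h₁.trans h₂) h₃, hy', hp₁]
    simp only [map_add, map_sub, d_f, nat_f ι h₁, eb, tr_f Q]
    rw [nat_f ι' (h₁.trans h₂), nat_f b (h₁.trans h₂), ← tr_f P' h₁ h₂, e]
    simp only [map_add, map_sub]
    abel

end Five

end Groth.Agent.DTenProIso
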