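import Groth.Agent.DTenProIso.Kos
import Groth.Agent.KFlat.QuasiIso

/-!
# Koszul systems tensored with a module placed in one degree
-/

set_option autoImplicit false
set_option linter.style.haveILetI false
set_option backward.isDefEq.respectTransparency false

universe u

open CategoryTheory CategoryTheory.Limits Opposite CohIII MonoidalCategory CochainComplex

noncomputable section

namespace Groth.Agent.DTenProIso

open Groth.Agent.KoszulCech Groth.Agent.LocCohLib

variable {A : Type u} [CommRing A]

section Transfer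

variable {X Y X' Y' : ARSys.PS (Cx A)} {f : X ⟶ Y} {f' : X' ⟶ Y'} {p : ℤ}
  (eX : ∀ (n : ℕ) (i j : ℤ), i + p = j → ((X'.obj (op n)).X i ≃ₗ[A] (X.obj (op n)).X j))
  (eY : ∀ (n : ℕ) (i j : ℤ), i + p = j → ((Y'.obj (op n)).X i ≃ₗ[A] (Y.obj (op n)).X j))
  (dX : ∀ n i j i' j' (h : i + p = j) (h' : i' + p = j'), i + 1 = i' → ∀ x,
    (X.obj (op n)).d j j' (eX n i j h x) = eX n i' j' h' ((X'.obj (op n)).d i i' x))
  (dY : ∀ n i j i' j' (h : i + p = j) (h' : i' + p = j'), i + 1 = i' → ∀ x,
    (Y.obj (op n)).d j j' (eY n i j h x) = eY n i' j' h' ((Y'.obj (op n)).d i i' x))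
  (tX : ∀ {n m} (hnm : n ≤ m) i j (h : i + p = j) x,
    (ARSys.tr X hnm).f j (eX m i j h x) = eX n i j h ((ARSys.tr X' hnm).f i x))
  (tY : ∀ {n m} (hnm : n ≤ m) i j (h : i + p = j) x,
    (ARSys.tr Y hnm).f j (eY m i j h x) = eY n i j h ((ARSys.tr Y' hnm).f i x))
  (fX : ∀ n i j (h : i + p = j) x, (f.app (op n)).f j (eX n i j h x) = eY n i j h ((f'.app (op n)).f i x))

include eX eY dX dY tX tY fX

theorem Inj.transfer {i j : ℤ} (h : i + p = j) (hf : Inj f' i) : Inj f j := fun n => by
  obtain ⟨m, hm, H⟩ := hf n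
  refine ⟨m, hm, fun z hz w hw => ?_⟩
  obtain ⟨z, rfl⟩ := (eX m i j h).surjective z
  obtain ⟨w, rfl⟩ := (eY m (i - 1) (j - 1) (by omega)).surjective w
  rw [dX m i j (i + 1) (j + 1) h (by omega) rfl, map_eq_zero_iff _ (LinearEquiv.injective _)] at hz
  rw [fX, dY m (i - 1) (j - 1) i j (by omega) h (by omega)] at hw
  obtain ⟨v, hv⟩ := H z hz w ((LinearEquiv.injective _) hw)
  exact ⟨eX n (i - 1) (j - 1) (by omega) v, by
    rw [dX n (i - 1) (j - 1) i j (by omega) h (by omega), hv, tX]⟩

theorem Surj.transfer {i j : ℤ} (h : i + p = j) (hf : Surj f' i) : Surj f j := fun n => by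
  obtain ⟨m, hm, H⟩ := hf n
  refine ⟨m, hm, fun y hy => ?_⟩
  obtain ⟨y, rfl⟩ := (eY m i j h).surjective y
  rw [dY m i j (i + 1) (j + 1) h (by omega) rfl, map_eq_zero_iff _ (LinearEquiv.injective _)] at hy
  obtain ⟨x, w, hx, hw⟩ := H y hy
  refine ⟨eX n i j h x, eY n (i - 1) (j - 1) (by omega) w, ?_, ?_⟩
  · rw [dX n i j (i + 1) (j + 1) h (by omega) rfl, hx, map_zero]
  · rw [fX, dY n (i - 1) (j - 1) i j (by omega) h (by omega), tY, hw, map_add]

end Transfer

/-- Naturality of the comparison of an additive functor applied to a mapping cone. -/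
theorem mapHomologicalComplexIso_natural {K L K' L' : Cx A} (φ : K ⟶ L) (φ' : K' ⟶ L') (p : K ⟶ K') (q : L ⟶ L')
    (comm : φ ≫ q = p ≫ φ') (H : ModuleCat.{u} A ⥤ ModuleCat.{u} A) [H.Additive]
    (comm' : (H.mapHomologicalComplex _).map φ ≫ (H.mapHomologicalComplex _).map q =
      (H.mapHomologicalComplex _).map p ≫ (H.mapHomologicalComplex _).map φ') :
    (H.mapHomologicalComplex _).map (mappingCone.map φ φ' p q comm) ≫
        (mappingCone.mapHomologicalComplexIso φ' H).hom =
      (mappingCone.mapHomologicalComplexIso φ H).hom ≫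
        mappingCone.map ((H.mapHomologicalComplex _).map φ) ((H.mapHomologicalComplex _).map φ')
          ((H.mapHomologicalComplex _).map p) ((H.mapHomologicalComplex _).map q) comm' := by
  ext n : 1
  rw [← cancel_epi (mappingCone.mapHomologicalComplexXIso' φ H n (n + 1) rfl).inv]
  simp [mappingCone.mapHomologicalComplexIso, mappingCone.mapHomologicalComplexXIso_eq _ H n (n + 1) rfl,
    mappingCone.ext_from_iff _ (n + 1) n rfl, mappingCone.map, ← Functor.map_comp_assoc, ← Functor.map_comp]

variable (M : ModuleCat.{u} A)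

/-- The Koszul complex with coefficients in `A`, tensored with `M`. -/
def kten : ∀ l : List A, ((tensorRight M).mapHomologicalComplex (ComplexShape.up ℤ)).obj
    (koszulCx (ModuleCat.of A A) l) ≅ koszulCx M l
  | [] => (HomologicalComplex.singleMapHomologicalComplex (tensorRight M) (ComplexShape.up ℤ) 0).app _ ≪≫
      (HomologicalComplex.single (ModuleCat.{u} A) (ComplexShape.up ℤ) 0).mapIso (λ_ M)
  | f :: l => mappingCone.mapHomologicalComplexIso (f • 𝟙 (koszulCx (ModuleCat.of A A) l)) (tensorRight M) ≪≫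
      { hom := mappingCone.map _ (f • 𝟙 (koszulCx M l)) (kten l).hom (kten l).hom (by
          rw [Functor.map_smul, CategoryTheory.Functor.map_id]
          simp only [Linear.smul_comp, Linear.comp_smul]
          exact (congrArg (f • ·) (Category.id_comp _)).trans (congrArg (f • ·) (Category.comp_id _)).symm)
        inv := mappingCone.map (f • 𝟙 (koszulCx M l)) _ (kten l).inv (kten l).inv (by
          rw [Functor.map_smul, CategoryTheory.Functor.map_id]
          simp only [Linear.smul_comp, Linear.comp_smul]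
          exact (congrArg (f • ·) (Category.id_comp _)).trans (congrArg (f • ·) (Category.comp_id _)).symm)
        hom_inv_id := by
          rw [← mappingCone.map_comp]
          simp only [Iso.hom_inv_id]
          exact mappingCone.map_id _
        inv_hom_id := by
          rw [← mappingCone.map_comp]
          simp only [Iso.inv_hom_id]
          exact mappingCone.map_id _ }

theorem kten_invTrans {n m : ℕ} (h : n ≤ m) : ∀ fs : List A,
    ((tensorRight M).mapHomologicalComplex (ComplexShape.up ℤ)).map (invTrans (ModuleCat.of A A) h fs) ≫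
      (kten M (fs.map (· ^ n))).hom = (kten M (fs.map (· ^ m))).hom ≫ invTrans M h fs
  | [] => by
    simp only [invTrans]
    rw [CategoryTheory.Functor.map_id]
    exact (Category.id_comp _).trans (Category.comp_id _).symm
  | f :: l => by
    show _ ≫ (kten M (f ^ n :: l.map (· ^ n))).hom = (kten M (f ^ m :: l.map (· ^ m))).hom ≫ _
    simp only [invTrans, kten, Iso.trans_hom]
    rw [← Category.assoc, mapHomologicalComplexIso_natural _ _ _ _ _ _ (by
      simp only [← Functor.map_comp, Linear.smul_comp, Linear.comp_smul, Category.id_comp, Category.comp_id,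
        smul_smul, ← pow_add, Nat.add_sub_cancel' h]), Category.assoc, Category.assoc]
    congr 1
    refine (mappingCone.map_comp _ _ _ _ _ _ _ _ _).symm.trans
      (Eq.trans ?_ (mappingCone.map_comp _ _ _ _ _ _ _ _ _))
    congr 1
    · rw [Functor.map_smul, Linear.smul_comp, Linear.comp_smul, kten_invTrans h l]
    · exact kten_invTrans h l

theorem kaug_kten : ∀ (l : List A)
    (x : (((tensorRight M).mapHomologicalComplex (ComplexShape.up ℤ)).obj (koszulCx (ModuleCat.of A A) l)).X 0),
    kaug M l ((kten M l).hom.f 0 x) = (λ_ M).hom ((tensorRight M).map (ModuleCat.ofHom (kaug (ModuleCat.of A A) l)) x)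
  | [], x => by
    refine ConcreteCategory.congr_hom (f := ((kten M []).hom.f 0 ≫ (HomologicalComplex.singleObjXSelf (ComplexShape.up ℤ) 0 M).hom))
      (g := (tensorRight M).map (HomologicalComplex.singleObjXSelf (ComplexShape.up ℤ) 0 (ModuleCat.of A A)).hom ≫ (λ_ M).hom) ?_ x
    simp [kten]
    rfl
  | f :: l, x => by
    show kaug M l (csnd (f • 𝟙 (koszulCx M l)) 0 ((kten M (f :: l)).hom.f 0 x)) = _
    rw [show (kten M (f :: l)).hom.f 0 x = (mappingCone.map
        (((tensorRight M).mapHomologicalComplex (ComplexShape.up ℤ)).map (f • 𝟙 (koszulCx (ModuleCat.of A A) l)))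
        (f • 𝟙 (koszulCx M l)) (kten M l).hom (kten M l).hom _).f 0
      ((mappingCone.mapHomologicalComplexIso (f • 𝟙 (koszulCx (ModuleCat.of A A) l)) (tensorRight M)).hom.f 0 x) from rfl,
      csnd_map, kaug_kten l]
    refine congrArg (λ_ M).hom ?_
    refine ConcreteCategory.congr_hom
      (f := ((mappingCone.mapHomologicalComplexIso (f • 𝟙 (koszulCx (ModuleCat.of A A) l)) (tensorRight M)).hom.f 0 ≫
        (mappingCone.snd (((tensorRight M).mapHomologicalComplex (ComplexShape.up ℤ)).map (f • 𝟙 (koszulCx (ModuleCat.of A A) l)))).v 0 0 (add_zero 0)) ≫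
        (tensorRight M).map (ModuleCat.ofHom (kaug (ModuleCat.of A A) l)))
      (g := (tensorRight M).map (ModuleCat.ofHom (kaug (ModuleCat.of A A) (f :: l)))) ?_ x
    rw [show ModuleCat.ofHom (kaug (ModuleCat.of A A) (f :: l)) =
      (mappingCone.snd (f • 𝟙 (koszulCx (ModuleCat.of A A) l))).v 0 0 (add_zero 0) ≫
        ModuleCat.ofHom (kaug (ModuleCat.of A A) l) from rfl, Functor.map_comp]
    congr 1
    simp [mappingCone.mapHomologicalComplexIso, mappingCone.mapHomologicalComplexXIso_eq _ (tensorRight M) 0 (0 + 1) rfl]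
    erw [Category.comp_id]
    rw [Functor.map_smul, CategoryTheory.Functor.map_id]
    simp only [Linear.smul_comp, Linear.comp_smul]
    exact (congrArg (f • ·) (Category.id_comp _)).trans (congrArg (f • ·) (Category.comp_id _)).symm

end Groth.Agent.DTenProIso
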